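import Cfsg.Agent.Lib.FischerPresented.O73Group
import Cfsg.Agent.Lib.Fischer.ReflectMod3
import Cfsg.Agent.S5357
import Cfsg.Prelude.Def_FischerSpaces

/-!
The presented group of type Omega(7, 3) is the reflection group of the seven-dimensional orthogonal space of
discriminant one over the field with three elements, for reflections of norm two, modulo its centre.
-/

set_option autoImplicit false
set_option maxRecDepth 100000

namespace Cfsg.Agent.Fi23Type

open Cfsg.Agent.FischerPresented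
open Cfsg.Agent.CosetCert
open Cfsg.Agent.FischerPresented.O73 (I7 Q7 O7 mv idx of7)
open Matrix

local notation "GO" => Setup.G O73.setup

/-- Numbering of the coordinates. -/
noncomputable def e7 : Fin 7 ≃ I7 :=
  (Equiv.ofBijective (fun i : I7 => (⟨idx i % 7, Nat.mod_lt _ (by norm_num)⟩ : Fin 7)) (by decide)).symm

/-- The form on seven coordinates. -/
noncomputable def Qf : QuadraticForm (ZMod 3) (Fin 7 → ZMod 3) :=
  (Cfsg.Agent.Orth.qOdd (ZMod 3) 3).comp (LinearMap.funLeft (ZMod 3) (ZMod 3) e7.symm)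

theorem Qf_apply (v : Fin 7 → ZMod 3) : Qf v = Q7 (v ∘ e7.symm) :=
  congrFun (Cfsg.Agent.Orth.coe_qOdd 3) _

theorem Qf_polar (u v : Fin 7 → ZMod 3) :
    QuadraticMap.polar (⇑Qf) u v = QuadraticMap.polar Q7 (u ∘ e7.symm) (v ∘ e7.symm) := by
  simp only [QuadraticMap.polar, Qf_apply]
  rfl

theorem comp_symm (a : I7 → ZMod 3) : (a ∘ e7) ∘ e7.symm = a := funext fun i => congrArg a (e7.apply_symm_apply i)

theorem Qf_nondeg : (QuadraticMap.polarBilin Qf).Nondegenerate := by
  have hQ := Cfsg.Agent.Orth.qOdd_nondeg (F := ZMod 3) (by decide) 3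
  have hz : ∀ v : Fin 7 → ZMod 3, (∀ w, QuadraticMap.polar (⇑Qf) v w = 0) → v = 0 := fun v h => by
    have h0 : v ∘ e7.symm = 0 := hQ.1 _ fun w => by
      rw [QuadraticMap.polarBilin_apply_apply, Cfsg.Agent.Orth.coe_qOdd]
      have := h (w ∘ e7)
      rwa [Qf_polar, comp_symm] at this
    funext k
    have := congrFun h0 (e7 k)
    simpa using this
  exact ⟨fun v h => hz v h, fun v h => hz v fun w => by rw [QuadraticMap.polar_comm]; exact h w⟩

/-- The nonzero place in each row of the Gram matrix. -/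
def gperm : Equiv.Perm (Fin 7) :=
  Equiv.swap 1 4 * Equiv.swap 2 5 * Equiv.swap 3 6

theorem single_comp (i : Fin 7) : (Pi.single i 1 : Fin 7 → ZMod 3) ∘ e7.symm = Pi.single (e7 i) 1 := by
  funext k
  simp only [Function.comp_apply, Pi.single_apply, Equiv.symm_apply_eq]

theorem e7_val (i : Fin 7) : idx (e7 i) = i := by
  have h : ∀ k : I7, idx k < 7 := by decide
  have := congrArg Fin.val (e7.symm_apply_apply i)
  change idx (e7 i) % 7 = i at this
  rwa [Nat.mod_eq_of_lt (h _)] at this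

theorem Qf_det : Cfsg.polarGramDet (⇑Qf) = 1 := by
  have key : ∀ a b : I7, QuadraticMap.polar Q7 (Pi.single a 1) (Pi.single b 1) =
      if gperm ⟨idx a % 7, Nat.mod_lt _ (by norm_num)⟩ = ⟨idx b % 7, Nat.mod_lt _ (by norm_num)⟩ then
        (if idx a = 0 then 2 else 1) else 0 := by
    intro a b
    rw [O73.polar_apply]
    revert a b
    decide
  have : (Matrix.of fun i j : Fin 7 => QuadraticMap.polar (⇑Qf) (Pi.single i 1) (Pi.single j 1)) =
      Matrix.diagonal (fun i : Fin 7 => if (i : ℕ) = 0 then (2 : ZMod 3) else 1) * gperm.permMatrix (ZMod 3) := by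
    ext i j
    rw [Matrix.of_apply, Qf_polar, single_comp, single_comp, key, Matrix.diagonal_mul]
    simp only [e7_val, Nat.mod_eq_of_lt i.2, Nat.mod_eq_of_lt j.2, Fin.eta, Equiv.Perm.permMatrix,
      PEquiv.toMatrix_apply, Equiv.toPEquiv_apply, Option.mem_def, Option.some.injEq]
    split_ifs <;> simp
  rw [Cfsg.polarGramDet, this, Matrix.det_mul, Matrix.det_diagonal, Matrix.det_permutation]
  decide

/-- The isometry group on seven coordinates. -/
noncomputable abbrev Gi : Type := ↥(Cfsg.isometryGroup (ZMod 3) (⇑Qf))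

/-- Renumbering of matrices. -/
noncomputable def reidx : GL (Fin 7) (ZMod 3) →* GL I7 (ZMod 3) :=
  Units.map (Matrix.reindexAlgEquiv (ZMod 3) (ZMod 3) e7).toMonoidHom

theorem reidx_mulVec (g : GL (Fin 7) (ZMod 3)) (u : I7 → ZMod 3) :
    ((reidx g : GL I7 (ZMod 3)) : Matrix I7 I7 (ZMod 3)) *ᵥ u =
      (((g : GL (Fin 7) (ZMod 3)) : Matrix (Fin 7) (Fin 7) (ZMod 3)) *ᵥ (u ∘ e7)) ∘ e7.symm := by
  show ((g : Matrix (Fin 7) (Fin 7) (ZMod 3)).submatrix e7.symm e7.symm) *ᵥ u = _
  rw [Matrix.submatrix_mulVec_equiv]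
  rfl

/-- The isometries in the standard coordinates. -/
noncomputable def toO7 : Gi →* O7 :=
  (reidx.comp (Subgroup.subtype _)).codRestrict _ fun g u _ => by
    show Q7 (((reidx g.1 : GL I7 (ZMod 3)) : Matrix I7 I7 (ZMod 3)) *ᵥ u) = Q7 u
    rw [reidx_mulVec, ← Qf_apply]
    refine (g.2 _ (u ∘ e7)).trans ?_
    show Qf (u ∘ e7) = Q7 u
    rw [Qf_apply, comp_symm]

theorem toO7_inj : Function.Injective toO7 := fun a b h => by
  have h' : reidx a.1 = reidx b.1 := congrArg Subtype.val h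
  exact Subtype.ext (Units.map_injective (Matrix.reindexAlgEquiv (ZMod 3) (ZMod 3) e7).injective h')

/-- Minus the identity. -/
noncomputable def negI : O7 :=
  ⟨-1, fun u _ => by
    show Q7 (((-1 : GL I7 (ZMod 3)) : Matrix I7 I7 (ZMod 3)) *ᵥ u) = Q7 u
    rw [Units.val_neg, Units.val_one, Matrix.neg_mulVec, Matrix.one_mulVec,
      show -u = (-1 : ZMod 3) • u from (neg_one_smul _ u).symm, O73.q_smul]
    simp⟩

theorem negI_comm (g : O7) : Commute negI g :=
  Subtype.ext (show (-1 : GL I7 (ZMod 3)) * g.1 = g.1 * (-1 : GL I7 (ZMod 3)) by simp)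

theorem negI_sq : negI * negI = 1 :=
  Subtype.ext (show (-1 : GL I7 (ZMod 3)) * (-1 : GL I7 (ZMod 3)) = 1 by simp)

theorem negI_ne : negI ≠ 1 := fun h => by
  have h1 := congrArg (fun g : O7 => mv g (of7 (O73.unit7 0))) h
  simp only [O73.mv_one] at h1
  have h2 : mv negI (of7 (O73.unit7 0)) = -of7 (O73.unit7 0) := by
    show ((-1 : GL I7 (ZMod 3)) : Matrix I7 I7 (ZMod 3)) *ᵥ _ = _
    rw [Units.val_neg, Units.val_one, Matrix.neg_mulVec, Matrix.one_mulVec]
  rw [h2] at h1
  revert h1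
  decide

/-- The reflection in a root. -/
noncomputable def rootRefl (x : ℕ) (hx : x < 8) : Gi :=
  Fischer.Mod3.refl (Q := Qf) (show (2 : ZMod 3) ≠ 0 by decide) (of7 (O73.roots.getD x []) ∘ e7)
    (by rw [Qf_apply, comp_symm]; exact O73.q_root x hx)

theorem rootRefl_mem (x : ℕ) (hx : x < 8) : rootRefl x hx ∈ Cfsg.reflectionsOfNorm (⇑Qf) 2 :=
  (Fischer.Mod3.mem_reflections_iff (show (2 : ZMod 3) ≠ 0 by decide) _).2
    ⟨of7 (O73.roots.getD x []) ∘ e7, by rw [Qf_apply, comp_symm]; exact O73.q_root x hx, rfl⟩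

theorem toO7_root (x : ℕ) (hx : x < 8) : toO7 (rootRefl x hx) = negI * O73.gen x := by
  refine Subtype.ext (Units.ext (Matrix.ext_iff_mulVec.2 fun u => ?_))
  show ((reidx (rootRefl x hx).1 : GL I7 (ZMod 3)) : Matrix I7 I7 (ZMod 3)) *ᵥ u = mv (negI * O73.gen x) u
  rw [reidx_mulVec, O73.mv_mul]
  show (Cfsg.reflectionMatrix (⇑Qf) _ *ᵥ (u ∘ e7)) ∘ e7.symm =
    ((-1 : GL I7 (ZMod 3)) : Matrix I7 I7 (ZMod 3)) *ᵥ mv (O73.gen x) u
  have hg : mv (O73.gen x) u = O73.refl (of7 (O73.roots.getD x [])) u := by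
    rw [O73.gen, dif_pos hx]
    exact O73.reflGL_mulVec (O73.q_root x hx) u
  rw [hg, O73.refl_apply, Units.val_neg, Units.val_one, Matrix.neg_mulVec, Matrix.one_mulVec,
    Fischer.Mod3.refl_mulVec, Qf_apply, Qf_polar, comp_symm, comp_symm, O73.q_root x hx, QuadraticMap.polar_comm]
  funext i
  simp only [Function.comp_apply, Pi.sub_apply, Pi.smul_apply, smul_eq_mul, Pi.neg_apply, Pi.add_apply,
    e7.apply_symm_apply]
  rw [show ((2 : ZMod 3))⁻¹ = 2 from Fischer.Mod3.inv_eq_self 2]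
  ring

/-- Norm two reflections generate the presented group, up to sign. -/
theorem reflection_O73 : Cfsg.IsProjReflectionGroupModThree GO 7 (-2) 2 := by
  classical
  have hc : (2 : ZMod 3) ≠ 0 := by decide
  have hGfin := O73.order_facts.1
  obtain ⟨ι⟩ := O73.nonempty_iso
  have hQ := Cfsg.Agent.Orth.qOdd_nondeg (F := ZMod 3) (by decide) 3
  have hn : 7 ≤ Fintype.card I7 := by simp
  haveI hsimp : IsSimpleGroup GO := by
    have h := Cfsg.Agent.Orth.pomega_congr hQ hn
    rw [Cfsg.Agent.Orth.coe_qOdd] at h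
    exact ι.isSimpleGroup_congr.2 h
  have hcen : Subgroup.center GO = ⊥ := by
    refine (inferInstance : (Subgroup.center GO).Normal).eq_bot_or_eq_top.resolve_right fun h => ?_
    have h1 : commutator GO = ⊥ := by
      rw [commutator_def, Subgroup.commutator_eq_bot_iff_le_centralizer]
      exact fun a _ => Subgroup.mem_centralizer_iff.2 fun b _ =>
        Subgroup.mem_center_iff.1 (h ▸ Subgroup.mem_top a) b
    rw [O73.perfect] at h1
    obtain ⟨a, ha⟩ := exists_ne (1 : GO)
    exact ha (Subgroup.mem_bot.1 (h1 ▸ Subgroup.mem_top a))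
  obtain ⟨ρ, hρ⟩ := O73.setup.exists_hom O73.gen O73.gen_invol
    fun w hw => O73.wprod_eq_one (List.all_eq_true.1 O73.rels_ok w hw)
  have hinj : Function.Injective ρ := by
    rw [← MonoidHom.ker_eq_bot_iff]
    refine (MonoidHom.normal_ker ρ).eq_bot_or_eq_top.resolve_right fun h => ?_
    have h1 : O73.gen 0 = 1 := (hρ 0 (show (0 : ℕ) < 8 by norm_num)) ▸ MonoidHom.mem_ker.1 (h ▸ Subgroup.mem_top _)
    have h2 := O73.mv_gen (show (0 : ℕ) < 8 by norm_num) (O73.unit7 0)
    rw [h1, O73.mv_one] at h2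
    revert h2
    decide
  have hrange : ρ.range = Cfsg.Omega (ZMod 3) Q7 := by
    have hle : ρ.range ≤ Cfsg.Omega (ZMod 3) Q7 := by
      rintro _ ⟨g, rfl⟩
      have h : ρ g ∈ (commutator GO).map ρ := ⟨g, by rw [O73.perfect]; trivial, rfl⟩
      rw [commutator_def, Subgroup.map_commutator] at h
      exact Subgroup.commutator_mono le_top le_top h
    refine Subgroup.eq_of_le_of_card_ge hle (le_of_eq ?_)
    rw [← Nat.card_congr (MonoidHom.ofInjective hinj).toEquiv, O73.order_facts.2.1, ← O73.card_pomega,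
      Subgroup.card_eq_card_quotient_mul_card_subgroup (Subgroup.center ↥(Cfsg.Omega (ZMod 3) Q7))]
    have h1 := Cfsg.Agent.Orth.card_center_one hQ hn (Or.inr (by decide))
    rw [Cfsg.Agent.Orth.coe_qOdd] at h1
    rw [h1, mul_one]
  have hno : ∀ g, ρ g ≠ negI := fun g hg => by
    have hm : g ∈ Subgroup.center GO := Subgroup.mem_center_iff.2 fun k => hinj (by
      rw [map_mul, map_mul, hg]; exact (negI_comm (ρ k)).eq.symm)
    rw [hcen, Subgroup.mem_bot] at hm
    rw [hm, map_one] at hg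
    exact negI_ne hg.symm
  set R := Cfsg.reflectionSubgroup (⇑Qf) 2
  let Rel : Gi → GO → Prop := fun r g => toO7 r = ρ g ∨ toO7 r = negI * ρ g
  have huniq : ∀ {r g g'}, Rel r g → Rel r g' → g = g' := by
    intro r g g' h h'
    rcases h with h | h <;> rcases h' with h' | h' <;> rw [h] at h'
    · exact hinj h'
    · exact absurd (show ρ (g * g'⁻¹) = negI by rw [map_mul, map_inv, h', mul_inv_cancel_right]) (hno _)
    · exact absurd (show ρ (g' * g⁻¹) = negI by rw [map_mul, map_inv, ← h', mul_inv_cancel_right]) (hno _)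
    · exact hinj (mul_left_cancel h')
  have hmul : ∀ {r r' g g'}, Rel r g → Rel r' g' → Rel (r * r') (g * g') := by
    intro r r' g g' h h'
    rcases h with h | h <;> rcases h' with h' | h'
    · left; rw [map_mul, map_mul, h, h']
    · right; rw [map_mul, map_mul, h, h', ← mul_assoc, ← (negI_comm (ρ g)).eq, mul_assoc]
    · right; rw [map_mul, map_mul, h, h', mul_assoc]
    · left
      rw [map_mul, map_mul, h, h', (negI_comm (ρ g')).eq, ← mul_assoc, mul_assoc negI, (negI_comm _).eq,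
        mul_assoc, negI_sq, mul_one]
  have hroot : ∀ x (hx : x < 8), Rel (rootRefl x hx) (O73.setup.gen x) := fun x hx =>
    Or.inr (by rw [hρ x hx]; exact toO7_root x hx)
  obtain ⟨hts, ⟨r₁, hr₁, hclass⟩, -⟩ := S5357.result 7 (by norm_num) Qf Qf_nondeg 2 hc
  have hr0 : rootRefl 0 (by norm_num) ∈ R :=
    Subgroup.subset_closure (rootRefl_mem 0 _)
  have hrefl : ∀ r ∈ Cfsg.reflectionsOfNorm (⇑Qf) 2, ∃ g, Rel r g := by
    intro r hr
    have hrR : r ∈ R := Subgroup.subset_closure hr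
    have h0 : (⟨rootRefl 0 (by norm_num), hr0⟩ : R) ∈ conjugatesOf r₁ :=
      hclass ▸ rootRefl_mem 0 (by norm_num)
    have h1 : (⟨r, hrR⟩ : R) ∈ conjugatesOf r₁ := hclass ▸ hr
    obtain ⟨k, hk⟩ := isConj_iff.1 (((show IsConj r₁ _ from h0)).symm.trans (show IsConj r₁ _ from h1))
    have hk' : (k : Gi) * rootRefl 0 (by norm_num) * (k : Gi)⁻¹ = r := congrArg Subtype.val hk
    have hm : toO7 k.1 * O73.gen 0 * (toO7 k.1)⁻¹ ∈ ρ.range := by
      rw [hrange]
      exact (inferInstance : (Cfsg.Omega (ZMod 3) Q7).Normal).conj_mem _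
        (hrange ▸ (⟨_, hρ 0 (show (0 : ℕ) < 8 by norm_num)⟩ : O73.gen 0 ∈ ρ.range)) _
    obtain ⟨g, hg⟩ := hm
    refine ⟨g, Or.inr ?_⟩
    rw [← hk', map_mul, map_mul, map_inv, toO7_root, hg, ← mul_assoc (toO7 k.1), ← (negI_comm (toO7 k.1)).eq]
    group
  have htotal : ∀ r ∈ R, ∃ g, Rel r g := by
    intro r hr
    induction hr using Subgroup.closure_induction with
    | mem y hy => exact hrefl y hy
    | one => exact ⟨1, Or.inl (by rw [map_one, map_one])⟩
    | mul a b _ _ ha hb =>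
      obtain ⟨g, hg⟩ := ha
      obtain ⟨g', hg'⟩ := hb
      exact ⟨g * g', hmul hg hg'⟩
    | inv a _ ha =>
      obtain ⟨g, hg⟩ := ha
      refine ⟨g⁻¹, hg.imp (fun h => by rw [map_inv, map_inv, h]) fun h => ?_⟩
      rw [map_inv, map_inv, h, _root_.mul_inv_rev, inv_eq_of_mul_eq_one_right negI_sq]
      exact (negI_comm (ρ g)⁻¹).eq.symm
  choose f hf using fun r : R => htotal r r.2
  let F : R →* GO :=
    { toFun := f
      map_one' := huniq (hf 1) (Or.inl (by rw [map_one]; exact map_one toO7))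
      map_mul' := fun a b => huniq (hf (a * b)) (hmul (hf a) (hf b)) }
  have hFs : Function.Surjective F := by
    rw [← MonoidHom.range_eq_top, eq_top_iff, ← O73.setup.closure_gen, Subgroup.closure_le]
    rintro _ ⟨x, hx, rfl⟩
    exact ⟨⟨rootRefl x hx, Subgroup.subset_closure (rootRefl_mem x hx)⟩,
      huniq (hf _) (hroot x hx)⟩
  have hker : F.ker = Subgroup.center R := by
    refine le_antisymm (fun r hr => Subgroup.mem_center_iff.2 fun k => Subtype.ext (toO7_inj ?_)) fun r hr => ?_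
    · have h := hf r
      rw [show f r = 1 from hr] at h
      show toO7 (k.1 * r.1) = toO7 (r.1 * k.1)
      rw [map_mul, map_mul]
      rcases h with h | h <;> rw [h, map_one]
      · rw [one_mul, mul_one]
      · rw [mul_one]; exact (negI_comm _).eq.symm
    · rw [MonoidHom.mem_ker]
      have : F r ∈ Subgroup.center GO := Subgroup.mem_center_iff.2 fun g => by
        obtain ⟨k, rfl⟩ := hFs g
        rw [← map_mul, ← map_mul, Subgroup.mem_center_iff.1 hr k]
      rwa [hcen, Subgroup.mem_bot] at this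
  refine ⟨Qf, Qf_nondeg, by rw [Qf_det]; decide, ⟨(QuotientGroup.quotientKerEquivOfSurjective F hFs).symm.trans
    (QuotientGroup.quotientMulEquivOfEq hker)⟩⟩

end Cfsg.Agent.Fi23Type
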