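import Cfsg.Agent.Lib.Fi23Type.Refl
import Cfsg.Agent.Lib.Fi22Type.Type
import Cfsg.Agent.Lib.FischerUnique23.Omega
import Cfsg.Agent.Lib.FischerUnique23.Facts

/-!
The presented Fi23 with its transpositions, and every isomorphic copy, is of type M(23).
-/

set_option autoImplicit false
set_option maxRecDepth 100000

namespace Cfsg.Agent.Fi23Type

open Cfsg.Agent.FischerPresented
open Cfsg.Agent.CosetCert
open Cfsg.Agent.FischerUnique23
open Cfsg.Agent.Fischer.Factor (Nb)

universe u

theorem center_GT : Subgroup.center GT = ⊥ := by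
  have := Fi23.isSimpleGroup
  refine (Subgroup.center GT).normal_of_characteristic.eq_bot_or_eq_top.resolve_right fun h => ?_
  refine nine_not_commute ?_
  exact (Subgroup.mem_center_iff.1 (h ▸ Subgroup.mem_top (gT 9)) Fi23.z)

variable {G : Type u} [Group G]

/-- Isomorphic copies are generated by a class of 3-transpositions. -/
theorem isClass_map (e : GT ≃* G) {D : Set G} (he : e '' Fi23.D = D) :
    Cfsg.IsThreeTranspositionClass D := by
  obtain ⟨⟨h1, h2⟩, ⟨d, hd, hD⟩, h3⟩ := Fi23.isClass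
  subst he
  refine ⟨⟨?_, ?_⟩, ⟨e d, ⟨d, hd, rfl⟩, ?_⟩, ?_⟩
  · rintro _ ⟨x, hx, rfl⟩
    rw [← h1 x hx]
    exact orderOf_injective e.toMonoidHom e.injective x
  · rintro _ ⟨x, hx, rfl⟩ _ ⟨y, hy, rfl⟩
    rcases h2 x hx y hy with h | h
    · left; rw [← map_mul, ← map_pow, h, map_one]
    · right; rw [← map_mul, ← map_pow, h, map_one]
  · ext y
    obtain ⟨w, rfl⟩ := e.surjective y
    rw [Function.Injective.mem_set_image e.injective, hD]
    show IsConj d w ↔ IsConj (e d) (e w)
    rw [isConj_iff, isConj_iff]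
    constructor
    · rintro ⟨c, hc⟩
      exact ⟨e c, by rw [← map_inv, ← map_mul, ← map_mul, hc]⟩
    · rintro ⟨c, hc⟩
      obtain ⟨c, rfl⟩ := e.surjective c
      rw [← map_inv, ← map_mul, ← map_mul] at hc
      exact ⟨c, e.injective hc⟩
  · rw [← Subgroup.map_top_of_surjective e.toMonoidHom e.surjective, ← h3, MonoidHom.map_closure]
    rfl

/-- The members commuting with both of the standard non-commuting pair generate the joint centraliser. -/
theorem closure_common : Subgroup.closure {y : GT | y ∈ Fi23.D ∧ Commute Fi23.z y ∧ Commute (gT 9) y} = K1 := by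
  refine le_antisymm ?_ ?_
  · rw [← C1_eq, Subgroup.closure_le]
    exact fun y hy => mem_C1.2 ⟨hy.2.1.symm, hy.2.2.symm⟩
  · refine (Subgroup.closure_le _).2 ?_
    rintro _ ⟨i, hi, rfl⟩
    exact Subgroup.subset_closure ⟨(gen_nb i (om7Gens_lt i hi)).1, Fi23.z_comm i (om7Gens_lt i hi),
      (gen_comm_nine hi).symm⟩

/-- The joint centraliser modulo its centre is the projective reflection group. -/
theorem reflection_K1 : Cfsg.IsProjReflectionGroupModThree (↥K1 ⧸ Subgroup.center ↥K1) 7 (-2) 2 := by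
  obtain ⟨-, ⟨ι⟩⟩ := K1_iso
  obtain ⟨Q, h1, h2, ⟨r⟩⟩ := reflection_O73
  obtain ⟨κ⟩ := O73.nonempty_iso
  have hQ := Cfsg.Agent.Orth.qOdd_nondeg (F := ZMod 3) (by decide) 3
  have hs : IsSimpleGroup ↥K1 := by
    have h := Cfsg.Agent.Orth.pomega_congr hQ (show 7 ≤ Fintype.card (Unit ⊕ (Fin 3 ⊕ Fin 3)) by simp)
    rw [Cfsg.Agent.Orth.coe_qOdd] at h
    exact ι.isSimpleGroup_congr.2 h
  have hc : Subgroup.center ↥K1 = ⊥ := by
    refine (inferInstance : (Subgroup.center ↥K1).Normal).eq_bot_or_eq_top.resolve_right fun h => ?_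
    have hcen : Subgroup.center (Setup.G O73.setup) = ⊤ := by
      rw [← Qd.map_center_eq (ι.trans κ.symm), h,
        Subgroup.map_top_of_surjective (ι.trans κ.symm).toMonoidHom (ι.trans κ.symm).surjective]
    have h1 : commutator (Setup.G O73.setup) = ⊥ := by
      rw [commutator_def, Subgroup.commutator_eq_bot_iff_le_centralizer]
      exact fun a _ => Subgroup.mem_centralizer_iff.2 fun b _ =>
        Subgroup.mem_center_iff.1 (hcen ▸ Subgroup.mem_top a) b
    rw [O73.perfect] at h1
    obtain ⟨a, ha⟩ := exists_ne (1 : ↥K1)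
    refine ha ((ι.trans κ.symm).injective ?_)
    rw [map_one, ← Subgroup.mem_bot, ← h1]
    exact Subgroup.mem_top _
  exact ⟨Q, h1, h2, ⟨((((QuotientGroup.quotientMulEquivOfEq hc).trans QuotientGroup.quotientBot).trans ι).trans
    κ.symm).trans r⟩⟩

/-- Isomorphic copies are of type M(23). -/
theorem type_m23 (e : GT ≃* G) {D : Set G} (he : e '' Fi23.D = D) : Cfsg.IsOfTypeM23 G D := by
  have hnc : ¬ Commute (e Fi23.z) (e (gT 9)) := fun h => nine_not_commute (by simpa using h.map e.symm)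
  refine ⟨by rw [← Qd.map_center_eq e, center_GT, Subgroup.map_bot], e Fi23.z, he ▸ ⟨_, z23_mem, rfl⟩,
    e (gT 9), he ▸ ⟨_, gT_nine_mem, rfl⟩, hnc, ?_, 2, by decide, ?_⟩
  · have hset : {y : G | y ∈ D ∧ y ≠ e Fi23.z ∧ Commute (e Fi23.z) y} = e '' Nb Fi23.D Fi23.z := by
      ext y
      obtain ⟨w, rfl⟩ := e.surjective y
      rw [Function.Injective.mem_set_image e.injective, ← he]
      simp only [Set.mem_setOf_eq, Nb, Function.Injective.mem_set_image e.injective, ne_eq, e.injective.eq_iff]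
      exact and_congr_right fun _ => and_congr_right fun _ =>
        ⟨fun h => by simpa using h.map e.symm, fun h => h.map e⟩
    obtain ⟨π, hπs, hπg, hπk⟩ := exists_pi
    set H := Subgroup.closure {y : G | y ∈ D ∧ y ≠ e Fi23.z ∧ Commute (e Fi23.z) y} with hH
    have hcl : H = Fi23.K.map e.toMonoidHom := by
      rw [hH, hset, ← closure_nb_z23, MonoidHom.map_closure]; rfl
    let E : Fi23.K ≃* ↥H := (e.subgroupMap _).trans (MulEquiv.subgroupCongr hcl.symm)
    have hker : π.ker = Subgroup.center Fi23.K := by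
      rw [Fi23.center_K]
      ext g
      rw [MonoidHom.mem_ker, hπk]
      constructor
      · rintro (rfl | rfl)
        · exact one_mem _
        · exact Subgroup.mem_zpowers _
      · intro hg
        obtain ⟨k, rfl⟩ := Subgroup.mem_zpowers_iff.1 hg
        have h2 : Fi23.zK * Fi23.zK = 1 := Subtype.ext Fi23.z_sq
        rcases Int.even_or_odd' k with ⟨m, rfl | rfl⟩
        · exact Or.inl (by rw [zpow_mul, zpow_two, h2, one_zpow])
        · exact Or.inr (by rw [zpow_add, zpow_mul, zpow_two, h2, one_zpow, one_mul, zpow_one])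
    let f : Fi22Local.GG ≃* ↥H ⧸ Subgroup.center ↥H :=
      ((QuotientGroup.quotientKerEquivOfSurjective π hπs).symm.trans (QuotientGroup.quotientMulEquivOfEq hker)).trans
        (QuotientGroup.congr _ _ E (Qd.map_center_eq E))
    have hf : ∀ g : Fi23.K, f (π g) = QuotientGroup.mk (E g) := by
      intro g
      have h0 : (QuotientGroup.quotientKerEquivOfSurjective π hπs).symm (π g) = QuotientGroup.mk g :=
        (QuotientGroup.quotientKerEquivOfSurjective π hπs).symm_apply_eq.2 rfl
      show QuotientGroup.congr _ _ E (Qd.map_center_eq E) (QuotientGroup.quotientMulEquivOfEq hker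
        ((QuotientGroup.quotientKerEquivOfSurjective π hπs).symm (π g))) = _
      rw [h0]
      rfl
    refine Fi22Type.type_m22 f ?_
    have hEv : ∀ g : Fi23.K, ((E g : ↥H) : G) = e g := fun _ => rfl
    -- the neighbours of the base map onto the class
    have himg : ∀ g : Fi23.K, (g : GT) ∈ Nb Fi23.D Fi23.z → π g ∈ Fi22Class.D := by
      intro g hg
      obtain ⟨k, hk, e0⟩ : ∃ k ∈ Fi23.K, k * gT 0 * k⁻¹ = (g : GT) := by
        rcases D23_cases hg.1 with h | h | ⟨k, hk, h⟩
        · exact absurd h hg.2.1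
        · exact h
        · refine absurd ?_ nine_not_commute
          have hz : k * Fi23.z * k⁻¹ = Fi23.z := by rw [← Fi23.z_comm_K k hk, mul_inv_cancel_right]
          have h2 := hg.2.2
          rw [← h, ← hz, Fischer.commute_conj_iff] at h2
          exact h2
      have : g = ⟨k, hk⟩ * Fi23.gK 0 * (⟨k, hk⟩ : Fi23.K)⁻¹ := Subtype.ext (by
        rw [Subgroup.coe_mul, Subgroup.coe_mul, Subgroup.coe_inv, Fi23.gK_coe (by norm_num), e0])
      rw [this, map_mul, map_mul, map_inv]
      rw [hπg 0 (by norm_num), gn_zero]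
      exact FischerUnique.D_group.2.1 _ _ FischerUnique.z_mem
    ext q
    constructor
    · rintro ⟨a, ha, rfl⟩
      obtain ⟨c, rfl⟩ := Fi22Class.mem_D.1 ha
      obtain ⟨k, rfl⟩ := hπs c
      refine ⟨E (k * Fi23.gK 0 * k⁻¹), ?_, ?_⟩
      · show ((E (k * Fi23.gK 0 * k⁻¹) : ↥H) : G) ∈ {y : G | y ∈ D ∧ y ≠ e Fi23.z ∧ Commute (e Fi23.z) y}
        rw [hset, hEv]
        refine ⟨_, ?_, rfl⟩
        rw [Subgroup.coe_mul, Subgroup.coe_mul, Subgroup.coe_inv, Fi23.gK_coe (by norm_num)]
        have hk : (k : GT) * Fi23.z * (k : GT)⁻¹ = Fi23.z := by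
          rw [← Fi23.z_comm_K k k.2, mul_inv_cancel_right]
        have := Fischer.Factor.nb_conj D23_group (k : GT) (gen_nb 0 (by norm_num))
        rwa [hk] at this
      · rw [← hf, map_mul π, map_mul π, map_inv π, hπg 0 (by norm_num), gn_zero]
    · rintro ⟨x, hx, rfl⟩
      obtain ⟨g, rfl⟩ := E.surjective x
      refine ⟨π g, himg g ?_, hf g⟩
      have hx' : ((E g : ↥H) : G) ∈ {y : G | y ∈ D ∧ y ≠ e Fi23.z ∧ Commute (e Fi23.z) y} := hx
      rw [hset, hEv, Function.Injective.mem_set_image e.injective] at hx'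
      exact hx'
  · have hset : {y : G | y ∈ D ∧ y ≠ e Fi23.z ∧ Commute (e Fi23.z) y} ∩
        {y : G | y ∈ D ∧ y ≠ e (gT 9) ∧ Commute (e (gT 9)) y} =
        e '' {y : GT | y ∈ Fi23.D ∧ Commute Fi23.z y ∧ Commute (gT 9) y} := by
      ext y
      obtain ⟨w, rfl⟩ := e.surjective y
      rw [Function.Injective.mem_set_image e.injective, ← he]
      simp only [Set.mem_inter_iff, Set.mem_setOf_eq, Function.Injective.mem_set_image e.injective]
      constructor
      · rintro ⟨⟨hw, -, c1⟩, -, -, c2⟩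
        exact ⟨hw, by simpa using c1.map e.symm, by simpa using c2.map e.symm⟩
      · rintro ⟨hw, c1, c2⟩
        exact ⟨⟨hw, fun q => hnc (q ▸ (c2.map e.toMonoidHom)).symm, c1.map e⟩, hw,
          fun q => hnc (q ▸ (c1.map e.toMonoidHom)), c2.map e⟩
    have hL : Subgroup.closure ({y : G | y ∈ D ∧ y ≠ e Fi23.z ∧ Commute (e Fi23.z) y} ∩
        {y : G | y ∈ D ∧ y ≠ e (gT 9) ∧ Commute (e (gT 9)) y}) = K1.map e.toMonoidHom := by
      rw [hset, ← closure_common, MonoidHom.map_closure]; rfl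
    obtain ⟨Q, h1, h2, ⟨i⟩⟩ := reflection_K1
    exact ⟨Q, h1, h2, ⟨(QuotientGroup.congr _ _ ((e.subgroupMap K1).trans (MulEquiv.subgroupCongr hL.symm))
      (Qd.map_center_eq _)).symm.trans i⟩⟩

end Cfsg.Agent.Fi23Type
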